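import Mathlib.GroupTheory.Transfer
import Mathlib.GroupTheory.Abelianization.Defs
import Mathlib.Algebra.MonoidAlgebra.Basic
import Mathlib.LinearAlgebra.Matrix.Adjugate
import Mathlib.LinearAlgebra.FreeModule.Finite.CardQuotient
import Mathlib.LinearAlgebra.FreeModule.Int

/-!
The group-theoretic principal ideal theorem: the transfer from a finite group to its derived
subgroup, modulo the second derived subgroup, is trivial.
-/

set_option autoImplicit false
set_option linter.style.haveILetI false

namespace CfsgLib.PrincipalIdeal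

open MonoidAlgebra Finset

/-- A matrix relation among vectors is killed by the determinant. -/
theorem det_smul_eq_zero {R M ι : Type*} [CommRing R] [AddCommGroup M] [Module R M] [Fintype ι]
    [DecidableEq ι] (μ : Matrix ι ι R) (δ : ι → M) (h : ∀ i, ∑ j, μ i j • δ j = 0) (k : ι) :
    μ.det • δ k = 0 := by
  have h1 : ∑ j, (μ.adjugate * μ) k j • δ j = 0 := by
    simp only [Matrix.mul_apply, Finset.sum_smul, mul_smul]
    rw [Finset.sum_comm]
    simp only [← Finset.smul_sum, h, smul_zero, Finset.sum_const_zero]
  rw [Matrix.adjugate_mul] at h1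
  simpa [Matrix.smul_apply, Matrix.one_apply] using h1

/-- An integer matrix whose rows form a basis of the kernel of a map onto a finite group. -/
theorem exists_relation_matrix {ι B : Type*} [Fintype ι] [DecidableEq ι] [AddCommGroup B]
    [Finite B] (L : (ι → ℤ) →ₗ[ℤ] B) (hL : Function.Surjective L) :
    ∃ m : Matrix ι ι ℤ, (∀ i, L (m i) = 0) ∧ m.det.natAbs = Nat.card B := by
  have hidx : (LinearMap.ker L).toAddSubgroup.index ≠ 0 := by
    rw [AddSubgroup.index_ne_zero_iff_finite]
    exact Finite.of_equiv B (LinearMap.quotKerEquivOfSurjective L hL).symm.toEquiv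
  obtain ⟨e⟩ := Int.submodule_toAddSubgroup_index_ne_zero_iff.1 hidx
  let bN : Module.Basis ι ℤ (LinearMap.ker L) := Module.Basis.ofEquivFun e
  refine ⟨Matrix.of fun i => ((bN i : LinearMap.ker L) : ι → ℤ), fun i => LinearMap.mem_ker.1 (bN i).2, ?_⟩
  rw [← Nat.card_congr (LinearMap.quotKerEquivOfSurjective L hL).toEquiv,
    ← Submodule.natAbs_det_basis_change (Pi.basisFun ℤ ι) (LinearMap.ker L) bN,
    Module.Basis.det_apply, ← Matrix.det_transpose]
  congr 2

variable {G : Type*} [Group G] [Finite G]

/-- An element of the group ring fixed by all translations, in terms of the norm element. -/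
theorem fixed_eq_norm {Q : Type*} [CommGroup Q] [Fintype Q] {d : MonoidAlgebra ℤ Q}
    (hd : ∀ x : Q, d * of ℤ Q x = d) (s : ℤ)
    (hs : lift ℤ ℤ Q 1 d = s * Fintype.card Q) : d = s • ∑ x : Q, of ℤ Q x := by
  set N : MonoidAlgebra ℤ Q := ∑ x : Q, of ℤ Q x with hN
  have hNy : ∀ y : Q, N * of ℤ Q y = N := by
    intro y
    rw [hN, Finset.sum_mul]
    simp only [← map_mul]
    exact Fintype.sum_equiv (Equiv.mulRight y) _ _ fun x => rfl
  have hNr : ∀ r : MonoidAlgebra ℤ Q, N * r = (lift ℤ ℤ Q 1 r) • N := by
    intro r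
    induction r using MonoidAlgebra.induction_on with
    | of y => rw [hNy y, lift_of, MonoidHom.one_apply, one_smul]
    | add a b ha hb => rw [mul_add, ha, hb, map_add, add_smul]
    | smul c a ha => rw [mul_smul_comm, ha, map_smul, smul_smul, smul_eq_mul]
  have h1 : (Fintype.card Q : ℤ) • d = (Fintype.card Q : ℤ) • (s • N) := by
    have h2 : d * N = (Fintype.card Q : ℤ) • d := by
      rw [hN, Finset.mul_sum, Finset.sum_congr rfl (fun x _ => hd x), Finset.sum_const, Finset.card_univ,
        natCast_zsmul]
    rw [← h2, mul_comm, hNr, hs, mul_comm, mul_smul]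
  exact smul_right_injective _ (by exact_mod_cast Fintype.card_ne_zero) h1

/-- **Principal ideal theorem**, transfer form. -/
theorem transfer_commutator_eq_one :
    MonoidHom.transfer (Abelianization.of : ↥(commutator G) →* Abelianization ↥(commutator G)) =
      (1 : G →* Abelianization ↥(commutator G)) := by
  classical
  haveI := Fintype.ofFinite G
  haveI : Finite (Abelianization G) := Finite.of_surjective Abelianization.of (QuotientGroup.mk'_surjective _)
  haveI := Fintype.ofFinite (Abelianization G)
  have hsur : Function.Surjective (Abelianization.of : G → Abelianization G) := QuotientGroup.mk'_surjective _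
  let T : Abelianization G → G := Function.surjInv hsur
  have hT : ∀ q, Abelianization.of (T q) = q := Function.surjInv_eq hsur
  have hmem : ∀ (g : G) (q : Abelianization G),
      (T q)⁻¹ * g * T ((Abelianization.of g)⁻¹ * q) ∈ commutator G := fun g q => by
    rw [← Abelianization.ker_of, MonoidHom.mem_ker, map_mul, map_mul, map_inv, hT, hT]
    group
  let φ : G → Abelianization G → Additive (Abelianization ↥(commutator G)) := fun g q =>
    Additive.ofMul (Abelianization.of ⟨_, hmem g q⟩)
  have hφ : ∀ g h q, φ (g * h) q = φ g q + φ h ((Abelianization.of g)⁻¹ * q) := by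
    intro g h q
    simp only [φ, ← ofMul_mul, ← map_mul]
    congr 2
    refine Subtype.ext ?_
    simp only [Subgroup.coe_mul, map_mul, mul_inv_rev, mul_assoc, mul_inv_cancel_left]
  let ρ : Abelianization G →* Module.End ℤ (Abelianization G → Additive (Abelianization ↥(commutator G))) :=
    { toFun := fun x => LinearMap.funLeft ℤ _ (fun q => x⁻¹ * q)
      map_one' := by ext f q; simp
      map_mul' := fun x y => LinearMap.ext fun f => funext fun q => by simp [mul_comm, mul_assoc] }
  letI : Module (MonoidAlgebra ℤ (Abelianization G))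
      (Abelianization G → Additive (Abelianization ↥(commutator G))) :=
    Module.compHom _ (lift ℤ (Module.End ℤ _) (Abelianization G) ρ).toRingHom
  have hact : ∀ (x : Abelianization G) (f : Abelianization G → Additive (Abelianization ↥(commutator G))) (q),
      (of ℤ (Abelianization G) x • f) q = f (x⁻¹ * q) := by
    intro x f q
    change (lift ℤ (Module.End ℤ _) (Abelianization G) ρ (of ℤ _ x)) f q = _
    rw [lift_of]
    rfl
  let δ : G → (Abelianization G → Additive (Abelianization ↥(commutator G))) ×
      MonoidAlgebra ℤ (Abelianization G) := fun g =>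
    (φ g, of ℤ (Abelianization G) (Abelianization.of g) - 1)
  have hδ : ∀ g h, δ (g * h) = δ g + of ℤ (Abelianization G) (Abelianization.of g) • δ h := by
    intro g h
    refine Prod.ext (funext fun q => ?_) ?_
    · simp only [δ, Prod.fst_add, Prod.smul_fst, Pi.add_apply, hact, hφ]
    · simp only [δ, Prod.snd_add, Prod.smul_snd, map_mul, smul_eq_mul]
      ring
  let ε : MonoidAlgebra ℤ (Abelianization G) →+* ℤ := (lift ℤ ℤ (Abelianization G) 1).toRingHom
  have hεof : ∀ x, ε (of ℤ (Abelianization G) x) = 1 := fun x => by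
    change lift ℤ ℤ (Abelianization G) 1 (of ℤ (Abelianization G) x) = 1
    simp
  let P : AddSubgroup ((Abelianization G → Additive (Abelianization ↥(commutator G))) ×
      MonoidAlgebra ℤ (Abelianization G)) :=
    AddSubgroup.closure {v | ∃ (r : MonoidAlgebra ℤ (Abelianization G)) (g : G), ε r = 0 ∧ r • δ g = v}
  -- modulo P the derivation is a homomorphism
  have hPδ : ∀ g h, δ (g * h) - δ g - δ h ∈ P := fun g h =>
    AddSubgroup.subset_closure ⟨of ℤ _ (Abelianization.of g) - 1, h, by rw [map_sub, hεof, map_one, sub_self],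
      by rw [hδ, sub_smul, one_smul]; abel⟩
  have hP : ∀ v ∈ P, ∃ c : G → MonoidAlgebra ℤ (Abelianization G),
      (∀ g, ε (c g) = 0) ∧ ∑ g, c g • δ g = v := by
    intro v hv
    induction hv using AddSubgroup.closure_induction with
    | mem v hv =>
      obtain ⟨r, g, hr, rfl⟩ := hv
      exact ⟨Pi.single g r, fun i => by by_cases h : i = g <;> simp [h, hr], by
        simp [Pi.single_apply, ite_smul]⟩
    | zero => exact ⟨0, by simp, by simp⟩
    | add a b _ _ ha hb =>
      obtain ⟨c, hc, rfl⟩ := ha
      obtain ⟨c', hc', rfl⟩ := hb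
      exact ⟨c + c', fun g => by simp [hc, hc'], by simp [add_smul, Finset.sum_add_distrib]⟩
    | neg a _ ha =>
      obtain ⟨c, hc, rfl⟩ := ha
      exact ⟨-c, fun g => by simp [hc], by simp⟩
  let θ₀ : G →* Multiplicative (_ ⧸ P) :=
    MonoidHom.mk' (fun g => Multiplicative.ofAdd (QuotientAddGroup.mk (δ g))) fun g h => by
      rw [← ofAdd_add, ← QuotientAddGroup.mk_add]
      refine congrArg Multiplicative.ofAdd ((QuotientAddGroup.eq_iff_sub_mem).2 ?_)
      simpa [sub_sub] using hPδ g h
  let θ : Additive (Abelianization G) →+ (_ ⧸ P) :=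
    AddMonoidHom.mk' (fun q => Multiplicative.toAdd (Abelianization.lift θ₀ q.toMul)) fun a b => by simp
  let L : (G → ℤ) →ₗ[ℤ] Additive (Abelianization G) :=
    Fintype.linearCombination ℤ (fun g => Additive.ofMul (Abelianization.of g))
  have hLs : Function.Surjective L := fun q => by
    obtain ⟨g, hg⟩ := hsur q.toMul
    exact ⟨Pi.single g 1, by simp [L, Fintype.linearCombination_apply, Pi.single_apply, hg]⟩
  obtain ⟨m, hm, hdet⟩ := exists_relation_matrix L hLs
  -- lift the relations
  have hμ : ∀ i, ∃ μ : G → MonoidAlgebra ℤ (Abelianization G),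
      (∀ g, ε (μ g) = m i g) ∧ ∑ g, μ g • δ g = 0 := by
    intro i
    have h1 := congrArg θ (hm i)
    simp only [L, Fintype.linearCombination_apply, map_sum, map_zsmul, map_zero] at h1
    have h2 : (QuotientAddGroup.mk (∑ g, m i g • δ g) : _ ⧸ P) = 0 := by
      rw [← h1, ← QuotientAddGroup.mk'_apply, map_sum]
      refine Finset.sum_congr rfl fun g _ => ?_
      rw [map_zsmul]
      simp [θ, θ₀]
    obtain ⟨c, hc, hcs⟩ := hP _ ((QuotientAddGroup.eq_zero_iff _).1 h2)
    refine ⟨fun g => (m i g : MonoidAlgebra ℤ (Abelianization G)) - c g, fun g => by simp [hc], ?_⟩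
    simp only [sub_smul, Int.cast_smul_eq_zsmul, Finset.sum_sub_distrib, hcs, sub_self]
  choose μ hμε hμ0 using hμ
  set d := (Matrix.of μ).det with hd
  have hkill : ∀ g, d • δ g = 0 := det_smul_eq_zero (Matrix.of μ) δ hμ0
  have hdfix : ∀ x, d * of ℤ (Abelianization G) x = d := by
    intro x
    obtain ⟨g, rfl⟩ := hsur x
    have h := congrArg Prod.snd (hkill g)
    rw [Prod.smul_snd, smul_eq_mul, mul_sub, mul_one, Prod.snd_zero, sub_eq_zero] at h
    exact h
  have hεd : ε d = m.det := by
    rw [hd, RingHom.map_det]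
    congr 1
    ext i j
    exact hμε i j
  obtain ⟨s, hs, hsd⟩ : ∃ s : ℤ, (s = 1 ∨ s = -1) ∧ m.det = s * Fintype.card (Abelianization G) := by
    rw [Nat.card_congr Additive.toMul, Nat.card_eq_fintype_card] at hdet
    rcases Int.natAbs_eq m.det with h | h
    · exact ⟨1, Or.inl rfl, by rw [h, hdet, one_mul]⟩
    · exact ⟨-1, Or.inr rfl, by rw [h, hdet, neg_one_mul]⟩
  have hdN := fixed_eq_norm hdfix s (by rw [← hsd, ← hεd]; rfl)
  refine MonoidHom.ext fun g => ?_
  have h1 := congrFun (congrArg Prod.fst (hkill g)) 1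
  have h2 : ∑ q, φ g q = 0 := by
    rw [hdN, smul_assoc, Finset.sum_smul] at h1
    simp only [Prod.smul_fst, Prod.fst_sum, Pi.smul_apply, Finset.sum_apply, hact,
      Prod.fst_zero, Pi.zero_apply, mul_one] at h1
    rw [show ∑ q, φ g q = ∑ q, φ g q⁻¹ from (Equiv.sum_comp (Equiv.inv _) _).symm]
    rcases hs with rfl | rfl <;> simpa [δ] using h1
  letI := (commutator G).fintypeQuotientOfFiniteIndex
  let T₀ : (commutator G).LeftTransversal :=
    ⟨Set.range (fun q : G ⧸ commutator G => T q), Subgroup.isComplement_range_left fun q => hT q⟩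
  have hT₀ : ∀ q : G ⧸ commutator G, (T₀.2.leftQuotientEquiv q : G) = T q := fun q =>
    Subgroup.IsComplement.leftQuotientEquiv_apply (fun q => hT q) q
  rw [MonoidHom.transfer_def _ T₀, MonoidHom.one_apply, ← toMul_zero, ← h2]
  simp only [Subgroup.leftTransversals.diff, toMul_sum]
  refine Finset.prod_bij (fun q _ => (q : Abelianization G)) (fun _ _ => Finset.mem_univ _)
    (fun _ _ _ _ h => h) (fun q _ => ⟨q, Finset.mem_univ _, rfl⟩) fun q _ => ?_
  simp only [φ, toMul_ofMul]
  congr 1
  refine Subtype.ext ?_
  simp only [Subgroup.smul_apply_eq_smul_apply_inv_smul, hT₀, smul_eq_mul, mul_assoc]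
  congr 2

end CfsgLib.PrincipalIdeal
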